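/-
Project PEN (S3321): the statement `PC` (counting in `2 ^ 4 . S₅`).
-/
import Cfsg.Agent.Pen.PCa

set_option autoImplicit false

namespace CL.Pen

open Cfsg Subgroup Matrix CL.Cls CL.Grp CL.Even CL.L10 CL.Mx QuadraticMap

universe u

/-- the index of a vector -/
def pcI (a : N4) : Fin 16 :=
  (if a 0 = 1 then 1 else 0) + (if a 1 = 1 then 2 else 0) + (if a 2 = 1 then 4 else 0) + if a 3 = 1 then 8 else 0

theorem pcI_add : ∀ a b, pcI (a + b) = pcI a ^^^ pcI b := by decide +kernel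

theorem pcI_surj : ∀ k, ∃ a, pcI a = k := by decide +kernel

theorem pc_n1 (a : N4) : n1 ((nO (pcI a)).1 (vec 1024)) = a ∧ (nO (pcI a)).1 (vec 1024) 10 = 1 ∧
    (nO (pcI a)).1 (vec 1024) 11 = 0 := by
  rw [cd_n]; revert a; decide +kernel

/-- the matrix of `nO (pcI a)` -/
def pcM (a : N4) (s t s' t' : F) : Fin 12 → Fin 12 → F :=
  ![![1, 0, a 3, a 2, a 1, a 0, 0, 0, 0, 0, s, t], ![0, 1, 0, 0, 0, 0, a 3, a 2, a 1, a 0, s', t'],
    ![0, 0, 1, 0, 0, 0, 0, 0, 0, 0, a 0, 0], ![0, 0, 0, 1, 0, 0, 0, 0, 0, 0, a 1, 0],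
    ![0, 0, 0, 0, 1, 0, 0, 0, 0, 0, a 2, 0], ![0, 0, 0, 0, 0, 1, 0, 0, 0, 0, a 3, 0],
    ![0, 0, 0, 0, 0, 0, 1, 0, 0, 0, 0, a 0], ![0, 0, 0, 0, 0, 0, 0, 1, 0, 0, 0, a 1],
    ![0, 0, 0, 0, 0, 0, 0, 0, 1, 0, 0, a 2], ![0, 0, 0, 0, 0, 0, 0, 0, 0, 1, 0, a 3],
    ![0, 0, 0, 0, 0, 0, 0, 0, 0, 0, 1, 0], ![0, 0, 0, 0, 0, 0, 0, 0, 0, 0, 0, 1]]

def pcOk (a : N4) (s t s' t' : F) : Bool :=
  decide (∀ i j : Fin 12, @Eq F (b2 (((nL (pcI a)).getD j 0).testBit i)) (pcM a s t s' t' i j))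

theorem pc_app (a : N4) : ∃ s t s' t' : F, ∀ v : V0, (nO (pcI a)).1 v =
    ![v 0 + fN a (n1 v) + s * v 10 + t * v 11, v 1 + fN a (n2 v) + s' * v 10 + t' * v 11, v 2 + a 0 * v 10,
      v 3 + a 1 * v 10, v 4 + a 2 * v 10, v 5 + a 3 * v 10, v 6 + a 0 * v 11, v 7 + a 1 * v 11, v 8 + a 2 * v 11,
      v 9 + a 3 * v 11, v 10, v 11] := by
  obtain ⟨s, t, s', t', h⟩ := (by decide +kernel : ∀ a : N4, ∃ s t s' t' : F, pcOk a s t s' t' = true) a
  rw [pcOk, decide_eq_true_eq] at h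
  refine ⟨s, t, s', t', fun v => funext fun i => ?_⟩
  change linL (nL (pcI a)) v i = _
  simp only [linL_apply, h]
  fin_cases i <;> simp [pcM, Fin.sum_univ_succ, fN, n1, n2] <;> ring

theorem pc_fix {a : N4} (a0 : a ≠ 0) {v : V0} (h : (nO (pcI a)).1 v = v) :
    v 10 = 0 ∧ v 11 = 0 ∧ fN a (n1 v) = 0 ∧ fN a (n2 v) = 0 := by
  obtain ⟨s, t, s', t', k⟩ := pc_app a
  rw [k] at h
  have z : ∀ x : F, (∀ i, a i * x = 0) → x = 0 := fun x e => by_contra fun x0 =>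
    a0 (funext fun i => (mul_eq_zero.1 (e i)).resolve_right x0)
  have e1 : v 10 = 0 := z _ fun i => by
    fin_cases i
    exacts [add_eq_left.1 (congrFun h 2), add_eq_left.1 (congrFun h 3), add_eq_left.1 (congrFun h 4),
      add_eq_left.1 (congrFun h 5)]
  have e2 : v 11 = 0 := z _ fun i => by
    fin_cases i
    exacts [add_eq_left.1 (congrFun h 6), add_eq_left.1 (congrFun h 7), add_eq_left.1 (congrFun h 8),
      add_eq_left.1 (congrFun h 9)]
  rw [e1, e2] at h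
  exact ⟨e1, e2, by simpa using congrFun h 0, by simpa using congrFun h 1⟩

theorem pc_nt (a : N4) (v : V0) (e : v 10 = 0) : n1 ((nO (pcI a)).1 v) = n1 v := by
  obtain ⟨s, t, s', t', k⟩ := pc_app a
  rw [k, e]
  simp [n1]

theorem pc_n1_add (v w : V0) : n1 (v + w) = n1 v + n1 w := by
  funext i; fin_cases i <;> rfl

theorem pc_le (S : Type) (f : S → V0) (hf : Function.Injective f) (A : Finset N4)
    (h : ∀ s, f s 10 = 0 ∧ f s 11 = 0 ∧ n1 (f s) ∈ A ∧ n2 (f s) ∈ A) : Nat.card S ≤ 4 * A.card ^ 2 := by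
  refine (Nat.card_le_card_of_injective (fun s => ((f s 0, f s 1), (⟨_, (h s).2.2.1⟩, ⟨_, (h s).2.2.2⟩)) :
    S → (F × F) × A × A) fun s t e => hf ?_).trans (by simp [pow_two])
  simp only [Prod.mk.injEq, Subtype.mk.injEq] at e
  obtain ⟨⟨a, b⟩, c, d⟩ := e
  funext i
  fin_cases i
  exacts [a, b, congrFun c 0, congrFun c 1, congrFun c 2, congrFun c 3, congrFun d 0, congrFun d 1, congrFun d 2,
    congrFun d 3, (h s).1.trans (h t).1.symm, (h s).2.1.trans (h t).2.1.symm]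

theorem pc_fz {g : OG q0} (hg : g ∈ FZ) (v : V0) : g.1 v 10 = v 10 ∧ g.1 v 11 = v 11 := by
  have a := OG.polar_app g v (vec 2)
  have b := OG.polar_app g v (vec 1)
  rw [hg.2] at a
  rw [hg.1] at b
  have e2 : ∀ w : V0, polar q0 w (vec 2) = w 10 := fun w => by
    rw [polar_q0, show vec 2 = Pi.single 1 1 from vec_pow 1]; simp [fN, n1, n2]
  have e1 : ∀ w : V0, polar q0 w (vec 1) = w 11 := fun w => by
    rw [polar_q0, show vec 1 = Pi.single 0 1 from vec_pow 0]; simp [fN, n1, n2]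
  rw [e2, e2] at a
  rw [e1, e1] at b
  exact ⟨a, b⟩

theorem pc : PC.{u} := by
  intro Γ _ r θ α h hx hn
  have wd : ∀ γ γ', r γ ∈ FZ → r γ = r γ' → θ γ = θ γ' := fun γ γ' a e => by
    rw [← mul_inv_eq_one, ← map_inv, ← map_mul]
    have e1 : r (γ * γ'⁻¹) = 1 := by rw [map_mul, map_inv, e, mul_inv_cancel]
    refine h.al.inj1 fun v => ?_
    have := (h.act (γ * γ'⁻¹) (e1 ▸ one_mem _) ![0, 0, v 0, v 1, v 2, v 3, 0, 0, 0, 0, 0, 0] rfl rfl).1
    have e2 : n1 ![0, 0, v 0, v 1, v 2, v 3, 0, 0, 0, 0, 0, 0] = v := by funext i; fin_cases i <;> rfl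
    rw [e1, OG.one_app, e2] at this
    exact this.symm
  set H := r.range ⊓ FZ with hH
  choose s hs using fun g : H => g.2.1
  let θ1 : H →* S5 := MonoidHom.mk' (fun g => θ (s g)) fun a b => by
    rw [← map_mul]
    exact wd _ _ (by rw [hs]; exact (a * b).2.2) (by rw [map_mul, hs, hs, hs]; rfl)
  have t1 : ∀ (g : H) γ, r γ = g → θ1 g = θ γ := fun g γ e => wd _ _ (by rw [hs]; exact g.2.2) (by rw [hs, e])
  have act : ∀ (g : H) (v : V0), v 10 = 0 → v 11 = 0 →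
      n1 (g.1.1 v) = α (θ1 g) *ᵥ n1 v ∧ n2 (g.1.1 v) = α (θ1 g) *ᵥ n2 v := fun g v a b => by
    have := h.act (s g) (by rw [hs]; exact g.2.2) v a b
    rwa [hs] at this
  have nz : ∀ k, nO k ∈ FZ := fun k => ⟨fx_NO.2 (inZ_iff.2 (by simp)) _ ⟨k, rfl⟩, fx_NO.2 (inZ_iff.2 (by simp)) _ ⟨k, rfl⟩⟩
  let ι : N4 → H := fun a => ⟨nO (pcI a), hx.n ⟨_, rfl⟩, nz _⟩
  have ker : ∀ g : H, θ1 g = 1 ↔ ∃ a, ι a = g := fun g => by
    refine ⟨fun e => ?_, ?_⟩
    · obtain ⟨k, hk⟩ := hn (s g) (by rw [hs]; exact g.2.2) e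
      obtain ⟨a, rfl⟩ := pcI_surj k
      exact ⟨a, Subtype.ext (hk.trans (hs g))⟩
    · rintro ⟨a, rfl⟩
      refine h.al.inj1 fun v => ?_
      have e2 : n1 ![0, 0, v 0, v 1, v 2, v 3, 0, 0, 0, 0, 0, 0] = v := by funext i; fin_cases i <;> rfl
      have := (act (ι a) ![0, 0, v 0, v 1, v 2, v 3, 0, 0, 0, 0, 0, 0] rfl rfl).1
      rw [pc_nt a _ rfl, e2] at this
      exact this.symm
  have aa : ∀ v : V0, v + v = 0 := fun v => funext fun i => CharTwo.add_self_eq_zero _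
  have ax : PcX θ1 α ι := by
    refine ⟨h.al, fun σ => ?_, fun a b => Subtype.ext ?_, fun a b e => ?_, ker, fun g a => ?_⟩
    · obtain ⟨γ, a, b⟩ := h.lift σ
      exact ⟨⟨r γ, ⟨γ, rfl⟩, a⟩, (t1 _ γ rfl).trans b⟩
    · exact (congrArg nO (pcI_add a b)).trans (nO_mul _ _).symm
    · rw [← (pc_n1 a).1, show nO (pcI a) = nO (pcI b) from congrArg Subtype.val e, (pc_n1 b).1]
    · obtain ⟨b, hb⟩ := (ker (g * ι a * g⁻¹)).1 (by simp [(ker _).2 ⟨a, rfl⟩])
      rw [← hb]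
      congr 1
      have e : (nO (pcI b)).1 (g.1.1 (vec 1024)) = g.1.1 ((nO (pcI a)).1 (vec 1024)) := by
        rw [← OG.mul_app, ← OG.mul_app]
        have : nO (pcI b) * g.1 = g.1 * nO (pcI a) := congrArg Subtype.val (eq_mul_inv_iff_mul_eq.1 hb)
        rw [this]
      have e1 : g.1.1 (vec 1024) = vec 1024 + (g.1.1 (vec 1024) + vec 1024) := by
        rw [add_left_comm, aa, add_zero]
      have e2 : (nO (pcI a)).1 (vec 1024) = vec 1024 + ((nO (pcI a)).1 (vec 1024) + vec 1024) := by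
        rw [add_left_comm, aa, add_zero]
      have z : n1 (vec 1024) = 0 := by decide
      have f := pc_fz g.2.2 (vec 1024)
      have e3 := congrArg n1 e
      rw [e2, map_add, pc_n1_add, (act g (_ + _) (by rw [Pi.add_apply, (pc_n1 a).2.1]; decide)
        (by rw [Pi.add_apply, (pc_n1 a).2.2]; decide)).1, pc_n1_add, z, add_zero, (pc_n1 a).1] at e3
      conv_lhs at e3 => rw [e1, map_add, pc_n1_add, (pc_n1 b).1, pc_nt b (_ + _) (by rw [Pi.add_apply, f.1]; decide),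
        pc_n1_add, z, add_zero, add_comm]
      exact add_left_cancel e3
  have fin := ax.fin
  have i1 : (ι pcE).1 = nO 1 := congrArg nO (by decide)
  have cs : ∀ {M : Subgroup (OG q0)}, M ≤ H → Nat.card M = Nat.card (M.subgroupOf H) := fun l =>
    (Nat.card_congr (subgroupOfEquivOfLe l).toEquiv).symm
  have cc : (centralizer {nO 1}).subgroupOf H = centralizer {ι pcE} := by
    ext g
    rw [mem_subgroupOf, mem_centralizer_singleton_iff, mem_centralizer_singleton_iff, ← i1]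
    exact ⟨fun e => Subtype.ext e, fun e => congrArg Subtype.val e⟩
  have nc : ∀ {M : Subgroup (OG q0)}, M ≤ H → {g | g ∈ M ∧ orderOf g = 2}.ncard =
      {g : H | g ∈ M.subgroupOf H ∧ orderOf g = 2}.ncard := fun {M} l => by
    rw [← Set.ncard_image_of_injective {g : H | g ∈ M.subgroupOf H ∧ orderOf g = 2} Subtype.val_injective]
    congr 1
    ext g
    refine ⟨fun a => ⟨⟨g, l a.1⟩, ⟨a.1, by rw [← orderOf_coe]; exact a.2⟩, rfl⟩, ?_⟩
    rintro ⟨g, a, rfl⟩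
    exact ⟨a.1, by rw [orderOf_coe]; exact a.2⟩
  have f64 : ∀ (g : H) (S : Type) (f : S → V0), g * g = 1 → θ1 g ≠ 1 → Function.Injective f →
      (∀ s, f s 10 = 0 ∧ f s 11 = 0 ∧ g.1.1 (f s) = f s) → Nat.card S ≤ 64 := fun g S f g2 g1 hf a => by
    have := pc_le S f hf (Finset.univ.filter fun v => α (θ1 g) *ᵥ v = v) fun s => by
      have := act g _ (a s).1 (a s).2.1
      rw [(a s).2.2] at this
      exact ⟨(a s).1, (a s).2.1, by simpa using this.1.symm, by simpa using this.2.symm⟩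
    rwa [h.al.fix4 (by rw [← map_mul, g2, map_one]) g1] at this
  refine ⟨ax.card, ?_, ?_, fun M l n => ?_, fun g hg o => ?_, fun k hk o => ?_, fun K l ea => ?_⟩
  · rw [nc le_rfl]
    simpa using ax.inv_all
  · rw [cs inf_le_left, inf_subgroupOf_left, cc, ax.card_cent]
  · have := (normal_subgroupOf_iff_le_normalizer l).2 n
    have m : (M.subgroupOf H).map H.subtype = M := map_subgroupOf_eq_of_le l
    rcases ax.nrm (M.subgroupOf H) with e | e | e | e
    · exact .inl (by rw [← m, e, Subgroup.map_bot])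
    · refine .inr (.inl ?_)
      rw [← m, e]
      ext g
      refine ⟨?_, ?_⟩
      · rintro ⟨g, a, rfl⟩
        obtain ⟨a, rfl⟩ := (ker g).1 a
        exact ⟨_, rfl⟩
      · rintro ⟨k, rfl⟩
        obtain ⟨a, rfl⟩ := pcI_surj k
        exact ⟨ι a, ax.th a, rfl⟩
    · exact .inr (.inr (.inl (le_antisymm l (subgroupOf_eq_top.1 e))))
    · refine .inr (.inr (.inr ⟨by rw [cs l, e, ax.card_alt], by rw [nc l, e]; exact ax.inv_alt, ?_, ?_⟩))
      · rw [← i1, ← mem_subgroupOf, e, mem_comap, ax.th]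
        exact one_mem _
      · rw [cs (inf_le_left.trans l), subgroupOf, comap_inf, ← subgroupOf, ← subgroupOf, e, cc, ax.card_cent_alt]
  · obtain ⟨γ, a, b⟩ := h.xx
    have xz : xO ∈ FZ := ⟨by rw [cd_x]; congr 1, by rw [cd_x]; congr 1⟩
    obtain ⟨c, hc⟩ := ax.three (x := ⟨xO, hx.x, xz⟩) (g := ⟨g, hg⟩) ((t1 _ γ b).trans a) (by rw [← orderOf_coe]; exact o)
    exact ⟨c, c.2, congrArg Subtype.val hc⟩
  · have k2 : k * k = 1 := by have := pow_orderOf_eq_one k; rwa [o, pow_two] at this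
    by_cases e : θ1 ⟨k, hk⟩ = 1
    · obtain ⟨a, e⟩ := (ker _).1 e
      obtain rfl : nO (pcI a) = k := congrArg Subtype.val e
      have a0 : a ≠ 0 := by
        rintro rfl
        rw [show pcI 0 = 0 by decide, nO_zero, orderOf_one] at o
        omega
      refine (pc_le _ Subtype.val Subtype.val_injective (Finset.univ.filter fun m => fN a m = 0) fun s => ?_).trans ?_
      · simpa using pc_fix a0 (s.2 _ (mem_zpowers _))
      · rw [(by decide +kernel : ∀ a : N4, a ≠ 0 → (Finset.univ.filter fun m => fN a m = 0).card = 8) a a0]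
        norm_num
    · let p : Fx (zpowers k) →+ F × F := AddMonoidHom.mk' (fun v => (v.1 10, v.1 11)) fun _ _ => rfl
      rw [← AddSubgroup.card_mul_index p.ker, AddSubgroup.index_ker]
      refine Nat.mul_le_mul (n₁ := _) (n₂ := 64) (m₂ := 4) (f64 ⟨k, hk⟩ _ (fun s => s.1.1) (Subtype.ext k2) e
        (Subtype.val_injective.comp Subtype.val_injective) fun s => ⟨congrArg Prod.fst s.2, congrArg Prod.snd s.2,
        s.1.2 _ (mem_zpowers _)⟩) ((Nat.card_le_card_of_injective _ Subtype.val_injective).trans (by simp))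
  · obtain ⟨a, b⟩ := ax.ea (K.subgroupOf H) fun k hk => Subtype.ext (ea _ hk)
    rw [← cs l] at a b
    refine ⟨a, fun k8 => ?_⟩
    rcases b k8 with ⟨a, b, a0, b0, n, ha, hb⟩ | ⟨a, a0, ha, k, hk, k1⟩
    · refine (pc_le _ Subtype.val Subtype.val_injective (Finset.univ.filter fun m => fN a m = 0 ∧ fN b m = 0)
        fun s => ?_).trans ?_
      · have x := pc_fix a0 (s.2 _ ha)
        have y := pc_fix b0 (s.2 _ hb)
        simpa using ⟨x.1, x.2.1, ⟨x.2.2.1, y.2.2.1⟩, x.2.2.2, y.2.2.2⟩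
      · rw [(by decide +kernel : ∀ a : N4, a ≠ 0 → ∀ b : N4, b ≠ 0 → a ≠ b →
          (Finset.univ.filter fun m => fN a m = 0 ∧ fN b m = 0).card = 4) a a0 b b0 n]
        norm_num
    · exact f64 k _ Subtype.val (Subtype.ext (ea _ hk)) k1 Subtype.val_injective fun s =>
        ⟨(pc_fix a0 (s.2 _ ha)).1, (pc_fix a0 (s.2 _ ha)).2.1, s.2 _ hk⟩

end CL.Pen
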