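/-
Project PEN (S3321, helper14): a simple group of characteristic 2 type with a 2-local subgroup of shape
`2 ^ (3 + 12) . (S₅ × L₃(2))`.  Definitions and the statements of the parts.
-/
import Cfsg.Agent.L10.DQ
import Cfsg.Agent.Spor.MxF2
import Cfsg.Prelude.Def_JankoFourType
import Cfsg.Prelude.Def_CaseTheorems

set_option autoImplicit false

namespace CL.Pen

open Cfsg Subgroup Matrix CL.Cls CL.Grp CL.Even CL.L10 CL.Mx QuadraticMap
open scoped MatrixGroups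

universe u

/-! ### The model of `K` -/

abbrev N4 := Fin 4 → F
abbrev W3 := Fin 3 → F
abbrev M43 := Fin 3 → N4
abbrev M4 := Matrix (Fin 4) (Fin 4) F
abbrev S5 := Equiv.Perm (Fin 5)
abbrev SL3 := SL(3, F)

/-- the symplectic form -/
def fN (a b : N4) : F := a 0 * b 3 + a 1 * b 2 + a 2 * b 1 + a 3 * b 0

def mS1 : M4 := !![1, 1, 0, 0; 0, 1, 0, 0; 0, 0, 1, 1; 0, 0, 0, 1]
def mS2 : M4 := !![1, 0, 0, 0; 1, 1, 0, 0; 0, 0, 1, 0; 0, 0, 1, 1]
def mS3 : M4 := !![0, 1, 1, 0; 0, 0, 0, 1; 1, 0, 0, 1; 0, 1, 0, 0]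
def mS4 : M4 := !![1, 0, 1, 0; 0, 1, 0, 1; 0, 0, 1, 0; 0, 0, 0, 1]

/-- the natural module of `S₅ = ΣL₂(4)` -/
structure AL (α : S5 →* M4) : Prop where
  s1 : α (Equiv.swap 0 1) = mS1
  s2 : α (Equiv.swap 1 2) = mS2
  s3 : α (Equiv.swap 2 3) = mS3
  s4 : α (Equiv.swap 3 4) = mS4

/-- the permutation of a word -/
def pW : List (Fin 4) → S5
  | [] => 1
  | i :: w => ![Equiv.swap 0 1, Equiv.swap 1 2, Equiv.swap 2 3, Equiv.swap 3 4] i * pW w

/-- the matrix of a word -/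
def mW : List (Fin 4) → M4
  | [] => 1
  | i :: w => ![mS1, mS2, mS3, mS4] i * mW w

/-- the action of a word -/
def vW : List (Fin 4) → N4 → N4
  | [], v => v
  | i :: w, v => let u := vW w v; let a := u 0; let b := u 1; let c := u 2; let d := u 3
    ![![a + b, b, c + d, d], ![a, a + b, c, c + d], ![b + c, d, a + d, b], ![a + c, b + d, c, d]] i

theorem mW_mulVec : ∀ (w : List (Fin 4)) (v : N4), mW w *ᵥ v = vW w v
  | [], v => one_mulVec v
  | i :: w, v => by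
    rw [mW, ← mulVec_mulVec, mW_mulVec w, vW]
    generalize vW w v = u
    revert i u; decide

theorem AL.word {α : S5 →* M4} (h : AL α) : ∀ w, α (pW w) = mW w
  | [] => map_one α
  | i :: w => by
    rw [pW, map_mul, h.word w, mW]
    fin_cases i <;> simp [h.s1, h.s2, h.s3, h.s4]

/-- 120 words -/
def W5 : List (List (Fin 4)) :=
  [[], [0]].flatMap fun a => [[], [1], [1, 0]].flatMap fun b => [[], [2], [2, 1], [2, 1, 0]].flatMap fun c =>
    [[], [3], [3, 2], [3, 2, 1], [3, 2, 1, 0]].map fun d => a ++ b ++ c ++ d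

theorem pW_surj : ∀ σ : S5, ∃ w ∈ W5, pW w = σ := by decide +kernel

theorem AL.inj1 {α : S5 →* M4} (h : AL α) {σ : S5} (e : ∀ v, α σ *ᵥ v = v) : σ = 1 := by
  obtain ⟨w, hw, rfl⟩ := pW_surj σ
  simp only [h.word, mW_mulVec] at e
  exact (by decide +kernel : ∀ w ∈ W5, (∀ v, vW w v = v) → pW w = 1) w hw e

theorem AL.fix4 {α : S5 →* M4} (h : AL α) {σ : S5} (e : σ * σ = 1) (e1 : σ ≠ 1) :
    (Finset.univ.filter fun v => α σ *ᵥ v = v).card = 4 := by
  obtain ⟨w, hw, rfl⟩ := pW_surj σ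
  simp only [h.word, mW_mulVec]
  exact (by decide +kernel : ∀ w ∈ W5, pW w * pW w = 1 → pW w ≠ 1 →
    (Finset.univ.filter fun v => vW w v = v).card = 4) w hw e e1

theorem AL.trans {α : S5 →* M4} (h : AL α) {v : N4} (hv : v ≠ 0) :
    ∃ σ, Equiv.Perm.sign σ = 1 ∧ α σ *ᵥ ![1, 0, 0, 0] = v := by
  obtain ⟨w, -, a, b⟩ := (by decide +kernel : ∀ v : N4, v ≠ 0 → ∃ w ∈ W5, Equiv.Perm.sign (pW w) = 1 ∧
    vW w ![1, 0, 0, 0] = v) v hv
  exact ⟨_, a, by rw [h.word, mW_mulVec, b]⟩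

/-- a 3-cycle -/
def x5 : S5 := Equiv.swap 0 1 * Equiv.swap 1 2

/-- the root element `e j ↦ e j + e i` (`1` for `i = j`) -/
def t3 (i j : Fin 3) : SL3 := if h : i ≠ j then SpecialLinearGroup.transvection h 1 else 1

theorem t3_val {i j : Fin 3} (h : i ≠ j) : (t3 i j).1 = 1 + single i j 1 := by rw [t3, dif_pos h]; rfl

/-- an element of order three: `e 0 ↦ e 0 + e 1`, `e 1 ↦ e 0`, `e 2 ↦ e 2` -/
def d3 : SL3 := t3 1 0 * t3 0 1

theorem d3_val : d3.1 = !![1, 1, 0; 1, 0, 0; 0, 0, 1] := by decide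

/-- `a ↦ A a γ⁻¹` on `Hom (W3, N4)`; `a i` is the image of `e i` -/
def actM (A : M4) (γ : SL3) (a : M43) : M43 := fun j => ∑ i, (γ⁻¹).1 i j • A *ᵥ a i

/-- the commutator map -/
def B0 (a b : M43) : W3 :=
  ![fN (a 1) (b 2) + fN (a 2) (b 1), fN (a 2) (b 0) + fN (a 0) (b 2), fN (a 0) (b 1) + fN (a 1) (b 0)]

/-- the squaring map -/
def sq0 (a : M43) : W3 := ![fN (a 1) (a 2), fN (a 2) (a 0), fN (a 0) (a 1)]

section
variable {M : Type u} [AddCommGroup M]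

/-- the module `L / Z` -/
structure MG (a : S5 → M →+ M) (g : SL3 → M →+ M) : Prop where
  a_one : ∀ m, a 1 m = m
  a_mul : ∀ σ τ m, a (σ * τ) m = a σ (a τ m)
  g_one : ∀ m, g 1 m = m
  g_mul : ∀ γ δ m, g (γ * δ) m = g γ (g δ m)
  comm : ∀ σ γ m, a σ (g γ m) = g γ (a σ m)
  card : Nat.card M = 4096
  two : ∀ m : M, m + m = 0
  xf : ∀ m, a x5 m = m → m = 0
  yf : ∃ y : SL3, orderOf y = 7 ∧ ∀ m, g y m = m → m = 0

/-- commutators and squares -/
structure MB (a : S5 → M →+ M) (g : SL3 → M →+ M) (B : M →+ M →+ W3) (s : M → W3) : Prop where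
  B_a : ∀ σ m m', B (a σ m) (a σ m') = B m m'
  B_g : ∀ γ m m', B (g γ m) (g γ m') = γ.1 *ᵥ B m m'
  B_symm : ∀ m m', B m m' = B m' m
  B_ne : ∃ m m', B m m' ≠ 0
  s_add : ∀ m m', s (m + m') = s m + s m' + B m m'
  s_g : ∀ γ m, s (g γ m) = γ.1 *ᵥ s m

/-- `[M, t3 i j]` -/
def IM (g : SL3 → M →+ M) (i j : Fin 3) : AddSubgroup M := (g (t3 i j) + AddMonoidHom.id M).range

/-- a 5-cycle is fixed point free, and transvections have commutator space of order 16 -/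
def MF (a : S5 → M →+ M) (g : SL3 → M →+ M) : Prop :=
  (∀ m, a (finRotate 5) m = m → m = 0) ∧ ∀ i j, i ≠ j → Nat.card (IM g i j) = 16

end

def MA : Prop := ∀ (M : Type u) [AddCommGroup M] (a : S5 → M →+ M) (g : SL3 → M →+ M), MG a g → MF a g ∧
  ((∀ i i' j, i ≠ j → i' ≠ j → IM g i j = IM g i' j) ∨ ∀ i j j', i ≠ j → i ≠ j' → IM g i j = IM g i j')

def MOD1 : Prop := ∀ (M : Type u) [AddCommGroup M] (a : S5 → M →+ M) (g : SL3 → M →+ M), MG a g →
  ∃ (N : AddSubgroup M) (ψ : (Fin 3 → N) ≃+ M) (b : Bool), Nat.card N = 16 ∧ (∀ σ, ∀ n ∈ N, a σ n ∈ N) ∧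
    (∀ σ (v v' : Fin 3 → N), (∀ i, (v' i : M) = a σ (v i)) → a σ (ψ v) = ψ v') ∧
    ∀ γ (v : Fin 3 → N), g γ (ψ v) = ψ fun j => ∑ i, ((cond b γ.1ᵀ (γ⁻¹).1 : Matrix _ _ F) i j).val • v i

def MOD2 : Prop := (∀ (N : Type u) [AddCommGroup N] (a : S5 → N →+ N), (∀ m, a 1 m = m) →
    (∀ σ τ m, a (σ * τ) m = a σ (a τ m)) → Nat.card N = 16 → (∀ m : N, m + m = 0) → (∀ m, a x5 m = m → m = 0) →
    ∃ (α : S5 →* M4) (e : N ≃+ N4), AL α ∧ ∀ σ m, e (a σ m) = α σ *ᵥ e m) ∧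
  ∀ (α : S5 →* M4) (f : N4 →+ N4 →+ F), AL α → (∀ σ m m', f (α σ *ᵥ m) (α σ *ᵥ m') = f m m') →
    (∀ m m', f m m' = 0) ∨ ∀ m m', f m m' = fN m m'

def MOD : Prop := ∀ (M : Type u) [AddCommGroup M] (a : S5 → M →+ M) (g : SL3 → M →+ M) (B : M →+ M →+ W3) (s : M → W3),
  MG a g → MB a g B s → ∃ (α : S5 →* M4) (φ : M ≃+ M43), AL α ∧ (∀ σ γ m, φ (a σ (g γ m)) = actM (α σ) γ (φ m)) ∧
    (∀ m m', B m m' = B0 (φ m) (φ m')) ∧ ∀ m, s m = sq0 (φ m)

/-- coordinates for `K` -/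
structure KM {G : Type*} [Group G] (K L Z : Subgroup G) (p : K →* S5 × SL3) (α : S5 →* M4) (φ : G → M43)
    (ι : W3 → G) : Prop where
  al : AL α
  LK : L ≤ K
  ZL : Z ≤ L
  surj : Function.Surjective p
  ker : ∀ k : K, p k = 1 ↔ (k : G) ∈ L
  ι_add : ∀ c c', ι (c + c') = ι c * ι c'
  ι_inj : ∀ {c}, ι c = 1 → c = 0
  mem_Z : ∀ {g}, g ∈ Z ↔ ∃ c, ι c = g
  ι_conj : ∀ (k : K) c, k * ι c * (k : G)⁻¹ = ι ((p k).2.1 *ᵥ c)
  φ_mul : ∀ {a b}, a ∈ L → b ∈ L → φ (a * b) = φ a + φ b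
  φ_surj : ∀ m, ∃ l ∈ L, φ l = m
  φ_zero : ∀ {l}, l ∈ L → (φ l = 0 ↔ l ∈ Z)
  φ_conj : ∀ (k : K) {l}, l ∈ L → φ (k * l * (k : G)⁻¹) = actM (α (p k).1) (p k).2 (φ l)
  comm : ∀ {a b}, a ∈ L → b ∈ L → a * b = ι (B0 (φ a) (φ b)) * (b * a)
  sq : ∀ {l}, l ∈ L → l * l = ι (sq0 (φ l))

/-- the action on `Z` -/
structure KZ {G : Type*} [Group G] (K L Z : Subgroup G) (p : K →* S5 × SL3) (ι : W3 → G) : Prop where
  LK : L ≤ K
  ZL : Z ≤ L
  surj : Function.Surjective p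
  ker : ∀ k : K, p k = 1 ↔ (k : G) ∈ L
  ι_add : ∀ c c', ι (c + c') = ι c * ι c'
  ι_inj : ∀ {c}, ι c = 1 → c = 0
  mem_Z : ∀ {g}, g ∈ Z ↔ ∃ c, ι c = g
  ι_conj : ∀ (k : K) c, k * ι c * (k : G)⁻¹ = ι ((p k).2.1 *ᵥ c)
  card : Nat.card L = 2 ^ 15
  comm : ∀ {a b}, a ∈ L → b ∈ L → a * b * a⁻¹ * b⁻¹ ∈ Z
  sq : ∀ {l}, l ∈ L → l * l ∈ Z
  nab : ∃ a ∈ L, ∃ b ∈ L, a * b ≠ b * a
  xf : ∃ x : K, p x = (x5, 1) ∧ ∀ l ∈ L, x * l * (x : G)⁻¹ * l⁻¹ ∈ Z → l ∈ Z
  yf : ∃ y : K, (p y).1 = 1 ∧ orderOf (p y).2 = 7 ∧ ∀ l ∈ L, y * l * (y : G)⁻¹ * l⁻¹ ∈ Z → l ∈ Z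

/-- the involution `z` -/
def z0 {G : Type*} (ι : W3 → G) : G := ι (Pi.single 2 1)

def KA : Prop := ∀ (G : Type u) [Group G] [Finite G] (K L Z : Subgroup G),
  L = (pCore 2 ↥K).map K.subtype → Z = (center ↥L).map L.subtype → IsSpecial 2 ↥L → Nat.card ↥L = 2 ^ 15 →
  IsElementaryAbelian 2 Z → Nat.card ↥Z = 8 →
  (∃ _ : (L.subgroupOf K).Normal, Nonempty (↥K ⧸ L.subgroupOf K ≃* S5 × SL3)) →
  (∀ x y : G, x ∈ K → y ∈ K → orderOf x = 3 → orderOf y = 7 → x * y = y * x →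
    L ⊓ centralizer ({x} : Set G) = Z ∧ L ⊓ centralizer ({y} : Set G) = ⊥) →
  ∃ p ι, KZ K L Z p ι

def KB : Prop := ∀ (G : Type u) [Group G] [Finite G] (K L Z : Subgroup G) p ι, KZ K L Z p ι →
  ∃ α φ, KM K L Z p α φ ι

def SYL : Prop := ∀ (G : Type u) [Group G] [Finite G] (K L Z : Subgroup G) p α φ ι, KM K L Z p α φ ι → K = 𝒩(Z) →
  ∀ S, IsSylowIn 2 S K → IsSylowIn 2 S ⊤

def TIA : Prop := ∀ (G : Type u) [Group G] [Finite G] (K L Z : Subgroup G) p α φ ι,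
  KM K L Z p α φ ι → K = 𝒩(Z) → centralizer {z0 ι} ≤ K →
  (∀ g : G, Z.map (MulAut.conj g).toMonoidHom = Z ∨ Z.map (MulAut.conj g).toMonoidHom ⊓ Z = ⊥) ∧
    ∀ g : G, Z.map (MulAut.conj g).toMonoidHom ≤ K → Z.map (MulAut.conj g).toMonoidHom = Z

def TI : Prop := ∀ (G : Type u) [Group G] [Finite G] [IsSimpleGroup G] (K L Z : Subgroup G) p α φ ι,
  ¬ IsMulCommutative G → KM K L Z p α φ ι → K = 𝒩(Z) → (∀ S, IsSylowIn 2 S K → IsSylowIn 2 S ⊤) →
  ¬ centralizer {z0 ι} ≤ K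

/-! ### The orthogonal space -/

abbrev V0 := Fin 12 → F

/-- coordinates: `0, 1` for `Z / z`, `2 … 5` and `6 … 9` for two columns, `10, 11` for `Q L / L` -/
def q0 : QuadraticForm F V0 := proj 0 11 + proj 1 10 + proj 2 9 + proj 3 8 + proj 4 7 + proj 5 6

def n1 (v : V0) : N4 := ![v 2, v 3, v 4, v 5]
def n2 (v : V0) : N4 := ![v 6, v 7, v 8, v 9]

theorem q0_apply (v : V0) : q0 v = v 0 * v 11 + v 1 * v 10 + fN (n1 v) (n2 v) := by
  simp [q0, fN, n1, n2, add_assoc]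

theorem polar_q0 (v w : V0) : polar q0 v w = v 0 * w 11 + v 11 * w 0 + v 1 * w 10 + v 10 * w 1 +
    fN (n1 v) (n2 w) + fN (n2 v) (n1 w) := by
  simp only [polar, q0_apply, fN, n1, n2, Pi.add_apply, cons_val_zero, cons_val_one, cons_val]
  ring

theorem q0_nd : (polarBilin q0).Nondegenerate := by
  have h : ∀ v : V0, (∀ w, polar q0 v w = 0) → v = 0 := fun v h => funext fun i => by
    have := h (Pi.single i.rev 1)
    rw [polar_q0] at this
    fin_cases i <;> simpa [fN, n1, n2, Fin.rev] using this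
  exact ⟨fun v hv => h v hv, fun v hv => h v fun w => (polar_comm _ _ _).trans (hv w)⟩

/-- the vector with code `c` -/
def vec (c : ℕ) : V0 := fun i => b2 (c.testBit i)

theorem vec_xor (c c' : ℕ) : vec (c ^^^ c') = vec c + vec c' := funext fun i => by
  simp [vec, Nat.testBit_xor, b2_xor]

theorem vec_zero : vec 0 = 0 := funext fun i => by simp [vec, b2_false]

theorem vec_inj {c c' : ℕ} (h : c < 4096) (h' : c' < 4096) (e : vec c = vec c') : c = c' :=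
  Nat.eq_of_testBit_eq fun i => by
    rcases lt_or_ge i 12 with hi | hi
    · exact b2_inj (congrFun e ⟨i, hi⟩)
    · have : 4096 ≤ 2 ^ i := Nat.pow_le_pow_right (n := 2) Nat.two_pos hi
      rw [Nat.testBit_eq_false_of_lt (h.trans_le this), Nat.testBit_eq_false_of_lt (h'.trans_le this)]

theorem card_V0 : Nat.card V0 = 4096 := by simp

theorem vec_surj (v : V0) : ∃ c < 4096, vec c = v := by
  obtain ⟨c, hc⟩ := ((show Function.Injective fun c : Fin 4096 => vec c from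
    fun a b e => Fin.ext (vec_inj a.2 b.2 e)).bijective_of_nat_card_le (by simp)).2 v
  exact ⟨c, c.2, hc⟩

theorem vec_pow (i : Fin 12) : vec (2 ^ i.1) = Pi.single i 1 := by revert i; decide

/-- the form on codes -/
def qB (c : ℕ) : Bool :=
  ((c.testBit 0 && c.testBit 11) ^^ (c.testBit 1 && c.testBit 10)) ^^ (((c.testBit 2 && c.testBit 9) ^^
    (c.testBit 3 && c.testBit 8)) ^^ ((c.testBit 4 && c.testBit 7) ^^ (c.testBit 5 && c.testBit 6)))

def bB (c c' : ℕ) : Bool := (qB (c ^^^ c') ^^ qB c) ^^ qB c'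

theorem q0_vec (c : ℕ) : q0 (vec c) = b2 (qB c) := by
  simp [q0_apply, fN, n1, n2, vec, qB, b2_xor, b2_and, add_assoc]

theorem polar_vec (c c' : ℕ) : polar q0 (vec c) (vec c') = b2 (bB c c') := by
  rw [polar, ← vec_xor, q0_vec, q0_vec, q0_vec, bB, b2_xor, b2_xor, CharTwo.sub_eq_add, CharTwo.sub_eq_add]

/-- the linear map sending the basis vectors to the vectors with the listed codes -/
def linL (L : List ℕ) : V0 →ₗ[F] V0 := Matrix.toLin' (Matrix.of fun i j => b2 ((L.getD j 0).testBit i))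

theorem linL_apply (L : List ℕ) (v : V0) (i : Fin 12) :
    linL L v i = ∑ j : Fin 12, b2 ((L.getD j 0).testBit i) * v j := rfl

theorem linL_vec {L : List ℕ} (h : L.length = 12) (c : ℕ) : linL L (vec c) = vec (xs L c) := funext fun i => by
  rw [vec, b2_xs, ← (finCongr h.symm).sum_comp, linL_apply]
  exact Finset.sum_congr rfl fun j _ => mul_comm _ _

theorem xs_xor (L : List ℕ) : ∀ c c', xs L (c ^^^ c') = xs L c ^^^ xs L c' := by
  induction L with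
  | nil => simp [xs]
  | cons x t ih =>
    intro c c'
    simp only [xs, Nat.testBit_xor, Nat.shiftRight_xor_distrib, ih]
    cases c.testBit 0 <;> cases c'.testBit 0 <;> simp [Nat.xor_assoc, Nat.xor_left_comm]

theorem xs_map (L : List ℕ) : ∀ (L' : List ℕ) c, xs (L'.map (xs L)) c = xs L (xs L' c)
  | [], _ => by have := xs_xor L 0 0; simpa [xs] using this.symm
  | x :: t, c => by
    simp only [List.map_cons, xs, xs_map L t]
    split_ifs
    · rw [xs_xor]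
    · rfl

/-- `L` is the code of `g` -/
def Cd (g : OG q0) (L : List ℕ) : Prop := ∀ c, g.1 (vec c) = vec (xs L c)

def oneL : List ℕ := [1, 2, 4, 8, 16, 32, 64, 128, 256, 512, 1024, 2048]

theorem Cd.mul {g h : OG q0} {L L' : List ℕ} (a : Cd g L) (b : Cd h L') : Cd (g * h) (L'.map (xs L)) := fun c => by
  rw [OG.mul_app, b, a, xs_map]

theorem Cd.ext {g h : OG q0} {L : List ℕ} (a : Cd g L) (b : Cd h L) : g = h := OG.ext' fun v => by
  obtain ⟨c, -, rfl⟩ := vec_surj v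
  rw [a, b]

theorem cd_of_basis {g : OG q0} {L : List ℕ} (hL : L.length = 12)
    (h : ∀ i : Fin 12, g.1 (Pi.single i 1) = vec (L.getD i 0)) : Cd g L := fun c => by
  rw [← linL_vec hL]
  refine LinearMap.congr_fun (f := g.1.toLinearMap) ((Pi.basisFun F _).ext fun i => ?_) _
  rw [Pi.basisFun_apply, LinearEquiv.coe_coe, h]
  funext j
  simp [linL_apply, vec, Pi.single_apply]

theorem cd_one : Cd 1 oneL := cd_of_basis rfl (by decide)

theorem q_ext {Q Q' : QuadraticForm F V0} (h1 : ∀ i, Q (Pi.single i 1) = Q' (Pi.single i 1))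
    (h2 : ∀ i j, polar Q (Pi.single i 1) (Pi.single j 1) = polar Q' (Pi.single i 1) (Pi.single j 1)) (v : V0) :
    Q v = Q' v := by
  have hp : polarBilin Q = polarBilin Q' :=
    (Pi.basisFun F _).ext fun i => (Pi.basisFun F _).ext fun j => by simpa using h2 i j
  have : v ∈ Submodule.span F (Set.range (Pi.basisFun F (Fin 12))) := by rw [Module.Basis.span_eq]; trivial
  induction this using Submodule.span_induction with
  | mem x hx => obtain ⟨i, rfl⟩ := hx; simpa using h1 i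
  | zero => simp
  | add x y _ _ a b =>
    have := LinearMap.congr_fun₂ hp x y
    simp only [polarBilin_apply_apply, polar] at this
    linear_combination this + a + b
  | smul c x _ a => rw [Q.map_smul, Q'.map_smul, a]

/-- `f` holds on the interval `c * 2 ^ k + [0, 2 ^ k)` (recursion depth `k`, for `decide +kernel`) -/
def allB (f : ℕ → Bool) : ℕ → ℕ → Bool
  | 0, c => f c
  | k + 1, c => allB f k (2 * c) && allB f k (2 * c + 1)

theorem allB_aux {f : ℕ → Bool} : ∀ {k c : ℕ}, allB f k c = true → ∀ a < 2 ^ k, f (c * 2 ^ k + a) = true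
  | 0, c, h, a, ha => by obtain rfl : a = 0 := by simpa using ha
                         simpa [allB] using h
  | k + 1, c, h, a, ha => by
    rw [allB, Bool.and_eq_true] at h
    rcases lt_or_ge a (2 ^ k) with l | l
    · rw [show c * 2 ^ (k + 1) + a = 2 * c * 2 ^ k + a by ring]; exact allB_aux h.1 a l
    · obtain ⟨b, rfl⟩ := Nat.exists_eq_add_of_le l
      rw [show c * 2 ^ (k + 1) + (2 ^ k + b) = (2 * c + 1) * 2 ^ k + b by ring]
      exact allB_aux h.2 b (by rw [pow_succ] at ha; omega)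

theorem allB_spec {f : ℕ → Bool} (h : allB f 12 0 = true) {c : ℕ} (hc : c < 4096) : f c = true := by
  simpa using allB_aux h c hc

/-- `L`, `L'` are codes of inverse isometries -/
def okB (L L' : List ℕ) : Bool :=
  Nat.beq L.length 12 && Nat.beq L'.length 12 && decide (L'.map (xs L) = oneL) && decide (L.map (xs L') = oneL) &&
    decide (∀ i : Fin 12, qB (xs L (2 ^ i.1)) = qB (2 ^ i.1)) &&
    decide (∀ i j : Fin 12, bB (xs L (2 ^ i.1)) (xs L (2 ^ j.1)) = bB (2 ^ i.1) (2 ^ j.1))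

theorem linL_inv {L L' : List ℕ} (h : L.length = 12) (h' : L'.length = 12) (e : L'.map (xs L) = oneL) :
    linL L ∘ₗ linL L' = LinearMap.id := LinearMap.ext fun v => by
  obtain ⟨c, -, rfl⟩ := vec_surj v
  rw [LinearMap.comp_apply, linL_vec h', linL_vec h, ← xs_map, e]
  exact (cd_one c).symm

theorem okB_spec {L L' : List ℕ} (h : okB L L' = true) : L.length = 12 ∧ L'.length = 12 ∧ L'.map (xs L) = oneL ∧
    L.map (xs L') = oneL ∧ ∀ v, q0 (linL L v) = q0 v := by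
  simp only [okB, Bool.and_eq_true, Nat.beq_eq, decide_eq_true_eq, and_assoc] at h
  obtain ⟨a, b, c, d, e, f⟩ := h
  refine ⟨a, b, c, d, q_ext (Q := q0.comp (linL L)) (fun i => ?_) fun i j => ?_⟩
  · rw [QuadraticMap.comp_apply, ← vec_pow, linL_vec a, q0_vec, q0_vec, e]
  · have k := f i j
    rw [← vec_pow, ← vec_pow, polar_vec, ← k, ← polar_vec, ← linL_vec a, ← linL_vec a]
    simp [polar]

/-- the isometry with code `L` -/
def mkO (L L' : List ℕ) (h : okB L L' = true) : OG q0 :=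
  ⟨LinearEquiv.ofLinearMap (linL L) (linL L') (linL_inv (okB_spec h).1 (okB_spec h).2.1 (okB_spec h).2.2.1)
    (linL_inv (okB_spec h).2.1 (okB_spec h).1 (okB_spec h).2.2.2.1), (okB_spec h).2.2.2.2⟩

theorem cd_mkO {L L' : List ℕ} (h : okB L L' = true) : Cd (mkO L L' h) L := fun c => linL_vec (okB_spec h).1 c

def dL : List ℕ := [2, 3, 64, 128, 256, 512, 68, 136, 272, 544, 2048, 3072]
def dI : List ℕ := [3, 1, 68, 136, 272, 544, 4, 8, 16, 32, 3072, 1024]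
def xL : List ℕ := [1, 2, 8, 12, 32, 48, 128, 192, 512, 768, 1024, 2048]
def xI : List ℕ := [1, 2, 12, 4, 48, 16, 192, 64, 768, 256, 1024, 2048]
def x1L : List ℕ := [1, 2, 26, 58, 38, 46, 387, 899, 579, 707, 1704, 2088]
def x1I : List ℕ := [1, 2, 30, 48, 54, 12, 451, 768, 835, 192, 2044, 2108]
def x2L : List ℕ := [1, 2, 30, 54, 48, 16, 451, 835, 768, 256, 1568, 2080]
def x2I : List ℕ := [1, 2, 26, 60, 32, 48, 387, 960, 512, 768, 1840, 2096]
def tL : List ℕ := [1, 2, 4, 8, 16, 32, 64, 128, 256, 512, 1025, 2050]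
def tauL : List ℕ := [1, 2, 4, 8, 20, 40, 64, 128, 320, 640, 1024, 2048]
def e3L : List ℕ := [1, 2, 16, 38, 4, 26, 256, 579, 64, 387, 1364, 2068]

/-- the codes of the elements of `N` -/
def nL (k : Fin 16) : List ℕ := [
  [1, 2, 4, 8, 16, 32, 64, 128, 256, 512, 1024, 2048],
  [1, 2, 4, 8, 16, 33, 64, 128, 256, 514, 1028, 2112],
  [1, 2, 4, 8, 17, 32, 64, 128, 258, 512, 1032, 2176],
  [1, 2, 4, 8, 17, 33, 64, 128, 258, 514, 1036, 2240],
  [1, 2, 4, 9, 16, 32, 64, 130, 256, 512, 1040, 2304],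
  [1, 2, 4, 9, 16, 33, 64, 130, 256, 514, 1044, 2368],
  [1, 2, 4, 9, 17, 32, 64, 130, 258, 512, 1049, 2434],
  [1, 2, 4, 9, 17, 33, 64, 130, 258, 514, 1053, 2498],
  [1, 2, 5, 8, 16, 32, 66, 128, 256, 512, 1056, 2560],
  [1, 2, 5, 8, 16, 33, 66, 128, 256, 514, 1061, 2626],
  [1, 2, 5, 8, 17, 32, 66, 128, 258, 512, 1064, 2688],
  [1, 2, 5, 8, 17, 33, 66, 128, 258, 514, 1069, 2754],
  [1, 2, 5, 9, 16, 32, 66, 130, 256, 512, 1072, 2816],
  [1, 2, 5, 9, 16, 33, 66, 130, 256, 514, 1077, 2882],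
  [1, 2, 5, 9, 17, 32, 66, 130, 258, 512, 1081, 2946],
  [1, 2, 5, 9, 17, 33, 66, 130, 258, 514, 1084, 3008]].getD k []

theorem ok_d : okB dL dI = true := by decide +kernel
theorem ok_x : okB xL xI = true := by decide +kernel
theorem ok_x1 : okB x1L x1I = true := by decide +kernel
theorem ok_x2 : okB x2L x2I = true := by decide +kernel
theorem ok_t : okB tL tL = true := by decide +kernel
theorem ok_tau : okB tauL tauL = true := by decide +kernel
theorem ok_e3 : okB e3L e3L = true := by decide +kernel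
theorem ok_n : ∀ k, okB (nL k) (nL k) = true := by decide +kernel

def dO : OG q0 := mkO _ _ ok_d
theorem cd_d : Cd dO dL := cd_mkO _
def xO : OG q0 := mkO _ _ ok_x
theorem cd_x : Cd xO xL := cd_mkO _
def x1O : OG q0 := mkO _ _ ok_x1
theorem cd_x1 : Cd x1O x1L := cd_mkO _
def x2O : OG q0 := mkO _ _ ok_x2
theorem cd_x2 : Cd x2O x2L := cd_mkO _
def tO : OG q0 := mkO _ _ ok_t
theorem cd_t : Cd tO tL := cd_mkO _
def tauO : OG q0 := mkO _ _ ok_tau
theorem cd_tau : Cd tauO tauL := cd_mkO _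
def e3O : OG q0 := mkO _ _ ok_e3
theorem cd_e3 : Cd e3O e3L := cd_mkO _
def nO (k : Fin 16) : OG q0 := mkO _ _ (ok_n k)
theorem cd_n (k : Fin 16) : Cd (nO k) (nL k) := cd_mkO _

theorem cd_inv {L L' : List ℕ} (h : okB L L' = true) : Cd (mkO L L' h)⁻¹ L' := fun c => linL_vec (okB_spec h).2.1 c

theorem d_cube : dO * dO * dO = 1 := ((cd_d.mul cd_d).mul cd_d).ext cd_one

theorem d_fpf {v : V0} (h : dO.1 v = v) : v = 0 := by
  obtain ⟨c, hc, rfl⟩ := vec_surj v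
  have k := allB_spec (by decide +kernel : allB (fun c => decide (xs dL c < 4096 ∧ (xs dL c = c → c = 0))) 12 0 = true) hc
  rw [decide_eq_true_eq] at k
  rw [k.2 (vec_inj k.1 hc ((cd_d c).symm.trans h)), vec_zero]

theorem nO_zero : nO 0 = 1 := (cd_n 0).ext cd_one

theorem nO_mul (k l : Fin 16) : nO k * nO l = nO (k ^^^ l) :=
  ((cd_n k).mul (cd_n l)).ext ((by decide +kernel : ∀ k l : Fin 16, nL (k ^^^ l) = (nL l).map (xs (nL k))) k l ▸ cd_n _)

/-- the group `N = L Q / Q` -/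
def NO : Subgroup (OG q0) where
  carrier := Set.range nO
  mul_mem' := by rintro _ _ ⟨k, rfl⟩ ⟨l, rfl⟩; exact ⟨_, (nO_mul k l).symm⟩
  one_mem' := ⟨0, nO_zero⟩
  inv_mem' := by
    rintro _ ⟨k, rfl⟩
    exact ⟨k, eq_inv_of_mul_eq_one_left (by rw [nO_mul, ← nO_zero]; congr 1; revert k; decide)⟩

theorem mem_NO {g : OG q0} : g ∈ NO ↔ ∃ k, nO k = g := Iff.rfl

/-- membership in `Z / z` -/
def inZ (v : V0) : Prop := ∀ i : Fin 12, 2 ≤ i.1 → v i = 0

theorem inZ_iff {v : V0} : inZ v ↔ v = 0 ∨ v = vec 1 ∨ v = vec 2 ∨ v = vec 3 := by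
  refine ⟨fun h => ?_, by rintro (rfl | rfl | rfl | rfl) <;> (unfold inZ; decide)⟩
  have e : v = fun i => if i = 0 then v 0 else if i = 1 then v 1 else 0 := funext fun i => by
    split_ifs with a b
    · rw [a]
    · rw [b]
    · exact h i (by revert i; decide)
  rw [e]
  generalize v 0 = a, v 1 = b
  revert a b; decide

theorem fx_NO {v : V0} : v ∈ Fx NO ↔ inZ v := by
  refine ⟨fun h => ?_, fun h g hg => ?_⟩
  · obtain ⟨c, hc, rfl⟩ := vec_surj v
    have k := allB_spec (by decide +kernel : allB (fun c => decide ((∀ k ∈ [1, 2, 4, 8], xs (nL k) c < 4096) ∧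
      ((∀ k ∈ [1, 2, 4, 8], xs (nL k) c = c) → c < 4))) 12 0 = true) hc
    rw [decide_eq_true_eq] at k
    have := k.2 fun j hj => vec_inj (k.1 j hj) hc ((cd_n j c).symm.trans (h _ ⟨j, rfl⟩))
    interval_cases c <;> (unfold inZ; decide)
  · obtain ⟨k, rfl⟩ := mem_NO.1 hg
    clear hg
    rcases inZ_iff.1 h with rfl | rfl | rfl | rfl
    · exact map_zero _
    all_goals rw [cd_n]; congr 1; revert k; decide

theorem fx_sq {K K1 : Subgroup (OG q0)} (h1 : K1 ≤ K) (hc : ∀ g ∈ K1, Commute g dO) {k : OG q0} (hk : k ∈ K)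
    (hi : k * dO * k⁻¹ = dO⁻¹) : Nat.card (Fx K) ^ 2 ≤ Nat.card (Fx K1) := by
  have aa : ∀ v : V0, v + v = 0 := fun v => funext fun i => CharTwo.add_self_eq_zero _
  rw [pow_two, ← Nat.card_prod]
  refine Nat.card_le_card_of_injective (fun x : Fx K × Fx K => (⟨x.1 + dO.1 x.2, fun g hg => by
    rw [map_add, x.1.2 g (h1 hg), ← OG.mul_app, (hc g hg).eq, OG.mul_app, x.2.2 g (h1 hg)]⟩ : Fx K1)) ?_
  rintro ⟨a, b⟩ ⟨a', b'⟩ e
  have e1 : dO.1 (b + b' : Fx K) = (a + a' : Fx K) := by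
    have := congrArg Subtype.val e
    simp only [Submodule.coe_add, map_add] at this ⊢
    linear_combination (exp := 1) this + aa (dO.1 b') - aa a
  have e2 : k * dO = dO * dO * k := by
    rw [eq_inv_of_mul_eq_one_left d_cube, ← hi]; group
  have e3 : dO.1 (dO.1 (b + b' : Fx K)) = dO.1 (b + b' : Fx K) := by
    conv_rhs => rw [e1, ← (a + a').2 k hk, ← e1, ← OG.mul_app, e2, OG.mul_app, (b + b').2 k hk, OG.mul_app]
  have e4 := d_fpf e3
  have e5 : ((b + b' : Fx K) : V0) = 0 := dO.1.map_eq_zero_iff.1 e4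
  rw [e1] at e4
  simp only [Submodule.coe_add] at e4 e5
  exact Prod.ext (Subtype.ext (by linear_combination (exp := 1) e4 - aa a'))
    (Subtype.ext (by linear_combination (exp := 1) e5 - aa b'))

/-- the isometries fixing `Z / z` pointwise -/
def FZ : Subgroup (OG q0) where
  carrier := {g | g.1 (vec 1) = vec 1 ∧ g.1 (vec 2) = vec 2}
  mul_mem' := fun a b => ⟨by rw [OG.mul_app, b.1, a.1], by rw [OG.mul_app, b.2, a.2]⟩
  one_mem' := ⟨rfl, rfl⟩
  inv_mem' := fun {g} a => ⟨by rw [← a.1, OG.inv_app_app, a.1], by rw [← a.2, OG.inv_app_app, a.2]⟩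

theorem mem_FZ {g : OG q0} : g ∈ FZ ↔ g.1 (vec 1) = vec 1 ∧ g.1 (vec 2) = vec 2 := Iff.rfl

/-- the two possible orbits of `vec 1` -/
def om6 : ℕ := 0x14482100201010012812840008040440218200848040044084410021020110014800821280044040120041480210010100841282084040400021484120010101408080048122440008040480182244001020012044180011020120014481001110012020220018880220010122008188022020200011881810010101001188811001010200124881800808040048122480080408008412241001020100214881800408080048212410020101001284814008080800842124200101010021848180040408008822144008080400882214100201020011884120010201001188411001020200224441200201010022444120020202001144411001010100114441188181248214144100000000000000000000000000000000188124812841144100000000000000001824818128144141000000000000000042818181824141410000000000000000000000000000000012842184881144114821842188114411211248484488222284481212448822228448484811222222122121212211111190000f0000f0000506f000000000f00a0f6000000000f00a0009000f000f0005000060f000000f0af000090000f000050000f06000000f0a000f0009000f0005000000006f0000fa00000000f60000faf0000f0000900005000f000f000900050ff00000000090050000f0f00000090500000000ff0000953cc3c3c3cc33333e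
def om7 : ℕ := 0x82214800408080084184120001020220481400121020022012280048040880082100148410022020840028210480080800128414012020200048212840080808201010021844220001020210814422008040084022810088040840082218008880084040440081110440080844001811044040400088118180080808008811184004040800481224200202010012488120020102002148814004080400841224200102020012848140080404004821241002020200218481800404040084212420010102002288411002020100228841400804080044221480040804004422144004080800881114800804040088111480080808004411144004040400441114244242184128288200000000000000000000000000000000244218421482288200000000000000002418424214288282000000000000000081424242418282820000000000000000000000000000000021481248442288228412481244228822122184848844111148842121884411114884848422111111211212121122222290000f0000f0000506f000000000f00a0f6000000000f00a0009000f000f0005000060f000000f0af000090000f000050000f06000000f0a000f0009000f0005000000006f0000fa00000000f60000faf0000f0000900005000f000f000900050ff00000000090050000f0f00000090500000000ff0000953cc3c3c3cc33333e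

/-- the image of `C_K(z)` -/
structure HS {Γ : Type*} [Group Γ] (r : Γ →* OG q0) (θ : Γ →* S5) (α : S5 →* M4) : Prop where
  al : AL α
  zb : ∀ γ v, inZ v → inZ ((r γ).1 v)
  act : ∀ γ, r γ ∈ FZ → ∀ v : V0, v 10 = 0 → v 11 = 0 →
    n1 ((r γ).1 v) = α (θ γ) *ᵥ n1 v ∧ n2 ((r γ).1 v) = α (θ γ) *ᵥ n2 v
  lift : ∀ s, ∃ γ, r γ ∈ FZ ∧ θ γ = s
  sg : ∃ γ, (r γ).1 (vec 1) = vec 1 ∧ r γ ∉ FZ
  dd : ∃ γ, θ γ = 1 ∧ r γ = dO
  xx : ∃ γ, θ γ = x5 ∧ r γ = xO
  nn : ∀ γ, r γ ∈ FZ → θ γ = 1 → Commute (r γ) dO ∧ n2 ((r γ).1 (vec 1024)) = 0 ∧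
    (n1 ((r γ).1 (vec 1024)) = 0 → r γ = 1)
  ns : ∀ n, ∃ γ, r γ ∈ FZ ∧ θ γ = 1 ∧ n1 ((r γ).1 (vec 1024)) = n

/-- explicit elements -/
structure HX (H0 : Subgroup (OG q0)) : Prop where
  d : dO ∈ H0
  x : xO ∈ H0
  x1 : x1O ∈ H0
  x2 : x2O ∈ H0
  n : NO ≤ H0
  tau : tauO ∈ H0 ∨ tauO * tO ∈ H0
  zb : ∀ g ∈ H0, ∀ v, inZ v → inZ (g.1 v)
  cd : ∀ g ∈ H0, g ∈ FZ → Commute g dO
  nd : ∀ g ∈ H0, g * dO * g⁻¹ = dO ∨ g * dO * g⁻¹ = dO⁻¹
  nn : H0 ≤ 𝒩(NO)
  sg : ∃ g ∈ H0, g.1 (vec 1) = vec 1 ∧ g * dO * g⁻¹ = dO⁻¹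

/-- counting in `H0 ⊓ FZ = 2 ^ 4 . S₅` -/
structure HC (H0 : Subgroup (OG q0)) : Prop where
  card : Nat.card ↥(H0 ⊓ FZ) = 1920
  inv : {g | g ∈ H0 ⊓ FZ ∧ orderOf g = 2}.ncard ≤ 115
  cn : Nat.card ↥(H0 ⊓ FZ ⊓ centralizer {nO 1}) = 128
  nrm : ∀ M ≤ H0 ⊓ FZ, H0 ⊓ FZ ≤ 𝒩(M) → M = ⊥ ∨ M = NO ∨ M = H0 ⊓ FZ ∨ Nat.card M = 960 ∧
    {g | g ∈ M ∧ orderOf g = 2}.ncard ≤ 75 ∧ nO 1 ∈ M ∧ Nat.card ↥(M ⊓ centralizer {nO 1}) = 64
  three : ∀ g ∈ H0 ⊓ FZ, orderOf g = 3 → ∃ c ∈ H0 ⊓ FZ, c * g * c⁻¹ = xO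
  fix2 : ∀ k ∈ H0 ⊓ FZ, orderOf k = 2 → Nat.card (Fx (zpowers k)) ≤ 256
  ea : ∀ K ≤ H0 ⊓ FZ, EA K → Nat.card K ≤ 16 ∧ (8 ≤ Nat.card K → Nat.card (Fx K) ≤ 64)

/-- the hypotheses on `H = C(z) / Q` -/
structure HH (H0 H : Subgroup (OG q0)) : Prop where
  hx : HX H0
  hc : HC H0
  le : H0 ≤ H
  stab : ∀ h ∈ H, h.1 (vec 1) = vec 1 → h ∈ H0
  ne : ¬ H ≤ H0

/-- the orbit of `vec 1` -/
def OM (H : Subgroup (OG q0)) : Prop :=
  ∃ om, (om = om6 ∨ om = om7) ∧ ∀ c < 4096, (∃ h ∈ H, h.1 (vec 1) = vec c) ↔ om.testBit c = true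

/-- `d` is normal -/
def ND (H : Subgroup (OG q0)) : Prop := ∀ h ∈ H, h * dO * h⁻¹ = dO ∨ h * dO * h⁻¹ = dO⁻¹

/-- simplicity -/
def SI (H : Subgroup (OG q0)) : Prop := Nat.card H = 2661120 ∧ Nat.card ↥(H ⊓ centralizer {dO}) = 1330560 ∧
  ∀ M ≤ H ⊓ centralizer {dO}, H ⊓ centralizer {dO} ≤ 𝒩(M) → dO ∈ M → M = zpowers dO ∨ M = H ⊓ centralizer {dO}

/-- the conclusion for `H` -/
structure HF (H : Subgroup (OG q0)) : Prop where
  o2 : ∀ M ≤ H, H ≤ 𝒩(M) → IsPGroup 2 M → M = ⊥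
  der : dO ∈ ⁅H ⊓ centralizer {dO}, H ⊓ centralizer {dO}⁆
  iso : ∃ _ : ((zpowers dO).subgroupOf H).Normal,
    Nonempty (H ⧸ (zpowers dO).subgroupOf H ≃* MulAut ↥Spor.M22)

def P0 : Prop := ∀ (Γ : Type u) [Group Γ] (r : Γ →* OG q0) θ α, HS r θ α → HX r.range ∧
  (∀ γ, r γ ∈ FZ → θ γ = 1 → r γ ∈ NO) ∧ (∀ γ, θ γ = 1 → (∃ h k, r γ = h * nO k * h⁻¹) → r γ ∈ NO) ∧
  ∀ h : OG q0, (∀ k, h * nO k * h⁻¹ ∈ NO) → ∀ v, inZ v → inZ (h.1 v)

def PC : Prop := ∀ (Γ : Type u) [Group Γ] (r : Γ →* OG q0) θ α, HS r θ α → HX r.range →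
  (∀ γ, r γ ∈ FZ → θ γ = 1 → r γ ∈ NO) → HC r.range

def PR : Prop := ∀ H0 P : Subgroup (OG q0), HX H0 → HC H0 → P ≤ H0 → NO ≤ P → ¬ P ≤ FZ → IsPGroup 2 P → RF P

def P1 : Prop := ∀ H0 H, HH H0 H → OM H
def P2 : Prop := ∀ H0 H, HH H0 H → OM H → ND H
def P3 : Prop := ∀ H0 H, HH H0 H → OM H → ND H → SI H
def P4 : Prop := ∀ H0 H, HH H0 H → OM H → ND H → SI H → HF H

/-! ### The extraspecial group -/

/-- coordinates for `Q` -/
structure QC0 {G : Type*} [Group G] (K L : Subgroup G) (p : K →* S5 × SL3) (φ : G → M43) (ι : W3 → G)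
    (Q : Subgroup G) (π : G → V0) : Prop where
  qp : QP q0 (z0 ι) Q π
  QK : Q ≤ K
  le : K ⊓ centralizer {z0 ι} ≤ KK (z0 ι) Q
  memL : ∀ {l}, l ∈ L → (l ∈ Q ↔ φ l 2 = 0)
  πL : ∀ {l}, l ∈ L → φ l 2 = 0 → n1 (π l) = φ l 0 ∧ n2 (π l) = φ l 1 ∧ π l 10 = 0 ∧ π l 11 = 0
  πι : ∀ c, π (ι c) 0 = c 1 ∧ π (ι c) 1 = c 0
  pQ : ∀ a : K, (a : G) ∈ Q → (p a).1 = 1 ∧ (p a).2.1 = 1 + single 2 0 (π a 10) + single 2 1 (π a 11)
  x0 : ∃ k : K, p k = (x5, 1) ∧ ∀ a ∈ Q, π (k * a * (k : G)⁻¹) = xO.1 (π a)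
  d0 : ∃ k : K, p k = (1, d3) ∧ k ^ 3 = 1 ∧ ∀ a ∈ Q, π (k * a * (k : G)⁻¹) = dO.1 (π a)

/-- generators -/
structure UU {G : Type*} [Group G] {K : Subgroup G} (p : K →* S5 × SL3) (ι : W3 → G) (x d u v : K) : Prop where
  px : p x = (x5, 1)
  pd : p d = (1, d3)
  pu : p u = (1, t3 2 0)
  pv : p v = (1, t3 2 1)
  x3 : x ^ 3 = 1
  d3 : d ^ 3 = 1
  xd : Commute x d
  xu : Commute x u
  xv : Commute x v
  uu : u * u = 1
  vv : v * v = 1
  uv : Commute u v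
  du : d * u * d⁻¹ = v
  dv : (d : G) * v * (d : G)⁻¹ = u * v ∨ (d : G) * v * (d : G)⁻¹ = u * v * z0 ι

def QA : Prop := ∀ (G : Type u) [Group G] [Finite G] (K L Z : Subgroup G) p α φ ι, KM K L Z p α φ ι →
  ∃ x d u v, UU p ι x d u v

def QB : Prop := ∀ (G : Type u) [Group G] [Finite G] (K L Z : Subgroup G) p α φ ι x d u v, KM K L Z p α φ ι →
  UU p ι x d u v → ∃ Q : Subgroup G, (∀ g, g ∈ Q ↔ ∃ l ∈ L, φ l 2 = 0 ∧ ∃ i j : F,
    g = l * ((u : G) ^ i.val * (v : G) ^ j.val)) ∧ K ⊓ centralizer {z0 ι} ≤ 𝒩(Q)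

def QC : Prop := ∀ (G : Type u) [Group G] [Finite G] (K L Z : Subgroup G) p α φ ι, KM K L Z p α φ ι →
  ∃ Q π, QC0 K L p φ ι Q π

def RHO : Prop := ∀ (G : Type u) [Group G] [Finite G] (K L Z : Subgroup G) p α φ ι Q π, KM K L Z p α φ ι →
  ∀ (h : QC0 K L p φ ι Q π) (ρ : KK (z0 ι) Q →* OG q0), QM q0 (z0 ι) Q π ρ →
  HS (ρ.comp (inclusion h.le)) ((MonoidHom.fst _ _).comp (p.comp (inclusion inf_le_left))) α ∧
  (∀ c : KK (z0 ι) Q, (c : G) ∈ K → ρ c = 1 → (c : G) ∈ Q) ∧ (∀ a ∈ Q, inZ (π a) ↔ a ∈ Z) ∧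
  ∀ c : KK (z0 ι) Q, (c : G) ∈ L → ρ c ∈ FZ ∧ n1 ((ρ c).1 (vec 1024)) = φ c 2

/-- the final step -/
def FN : Prop := ∀ (G : Type u) [Group G] [Finite G] (z : G) (Q : Subgroup G) (π : G → V0) (ρ : KK z Q →* OG q0),
  QM q0 z Q π ρ → centralizer {z} ≤ 𝒩(Q) → (∀ c, ρ c = 1 → (c : G) ∈ Q) → ND ρ.range →
  (∃ h ∈ ρ.range, h * dO * h⁻¹ = dO⁻¹) → HF ρ.range → (∃ k : KK z Q, k ^ 3 = 1 ∧ ρ k = dO) → IsOfJankoFourType G

end CL.Pen
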