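/-
Project PEN (S3321): `H = 3 . M₂₂ . 2`.
-/
import Cfsg.Agent.Pen.D
import Cfsg.Agent.S1663
import Cfsg.Agent.S2062
import Cfsg.Agent.Known.MathieuIso
import Cfsg.Agent.Cls.OutGrp
import Cfsg.Agent.Inv.Small1

set_option autoImplicit false

namespace CL.Pen

open Cfsg Subgroup CL.Cls CL.Grp CL.Even CL.L10 CL.Mx QuadraticMap
open scoped MatrixGroups

universe u

namespace P4x

theorem iso {G : Type u} [Group G] [Finite G] {H : Subgroup G} {d : G} (od : orderOf d = 3) (dH : d ∈ H)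
    (nd : ∀ h ∈ H, h * d * h⁻¹ = d ∨ h * d * h⁻¹ = d⁻¹) (cH : Nat.card H = 2661120)
    (cC : Nat.card ↥(H ⊓ centralizer {d}) = 1330560)
    (si : ∀ M ≤ H ⊓ centralizer {d}, H ⊓ centralizer {d} ≤ 𝒩(M) → d ∈ M → M = zpowers d ∨ M = H ⊓ centralizer {d})
    (nj : ∀ j ∈ H, j * d * j⁻¹ = d⁻¹ → j * j = 1 → (∀ h ∈ H, h * j * h⁻¹ * j⁻¹ ∈ zpowers d) → False) :
    ∃ _ : ((zpowers d).subgroupOf H).Normal, Nonempty (H ⧸ (zpowers d).subgroupOf H ≃* MulAut ↥Spor.M22) := by
  obtain ⟨C, hC⟩ : ∃ C, C = H ⊓ centralizer {d} := ⟨_, rfl⟩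
  rw [← hC] at cC si
  have mC : ∀ {g}, g ∈ C ↔ g ∈ H ∧ g * d * g⁻¹ = d := by
    simp only [hC, mem_inf, mem_centralizer_singleton_iff, mul_inv_eq_iff_eq_mul, implies_true]
  have CH : C ≤ H := fun _ h => (mC.1 h).1
  have DC : zpowers d ≤ C := zpowers_le.2 (mC.2 ⟨dH, by group⟩)
  have nD : H ≤ 𝒩(zpowers d) := fun h hh => mem_normalizer_fintype (by
    rintro _ ⟨k, rfl⟩
    rcases nd h hh with e | e <;> rw [← conj_zpow, e]
    exacts [zpow_mem (mem_zpowers d) _, zpow_mem (inv_mem (mem_zpowers d)) _])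
  have c2 : ∀ {a b}, a ∈ H → b ∈ H → a * d * a⁻¹ = d⁻¹ → b * d * b⁻¹ = d⁻¹ → a * b ∈ C := fun {a b} ha hb e e' =>
    mC.2 ⟨mul_mem ha hb, by
      rw [show a * b * d * (a * b)⁻¹ = a * (b * d * b⁻¹) * a⁻¹ by group, e', ← conj_inv, e, inv_inv]⟩
  have nC : H ≤ 𝒩(C) := hC ▸ le_norm_inf le_normalizer (by
    rw [← centralizer_closure, ← zpowers_eq_closure]; exact le_norm_cent nD)
  have n1 := (normal_subgroupOf_iff_le_normalizer (DC.trans CH)).2 nD
  have n2 := (normal_subgroupOf_iff_le_normalizer CH).2 nC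
  refine ⟨n1, ?_⟩
  let π := QuotientGroup.mk' ((zpowers d).subgroupOf H)
  have π1 : ∀ h : H, π h = 1 ↔ h.1 ∈ zpowers d := fun h => QuotientGroup.eq_one_iff h
  let K := (C.subgroupOf H).map π
  have n3 : K.Normal := n2.map π (QuotientGroup.mk'_surjective _)
  have c3 : Nat.card ((zpowers d).subgroupOf H) = 3 := by
    rw [Nat.card_congr (subgroupOfEquivOfLe (DC.trans CH)).toEquiv, Nat.card_zpowers, od]
  have cK : Nat.card K = 443520 := by
    have := relIndex_mul_relIndex ⊥ π.ker (C.subgroupOf H) bot_le (by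
      rw [QuotientGroup.ker_mk']; exact comap_mono DC)
    rw [relIndex_ker, relIndex_bot_left, relIndex_bot_left, Nat.card_congr (subgroupOfEquivOfLe CH).toEquiv, cC,
      QuotientGroup.ker_mk', c3] at this
    change 3 * Nat.card K = _ at this
    omega
  have mK : ∀ h : H, π h ∈ K → h.1 ∈ C := fun h ⟨c, hc, e⟩ => by
    have := (π1 (c⁻¹ * h)).1 (by rw [map_mul, map_inv, e, inv_mul_cancel])
    exact (mul_mem_cancel_left (inv_mem hc)).1 (DC this)
  have : Nontrivial K := Finite.one_lt_card_iff_nontrivial.1 (by rw [cK]; norm_num)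
  have : IsSimpleGroup K := ⟨fun N hN => by
    refine (si (((N.map K.subtype).comap π).map H.subtype) ?_ (fun c hc => mem_normalizer_fintype ?_)
      ⟨⟨d, dH⟩, by rw [SetLike.mem_coe, mem_comap, (π1 _).2 (mem_zpowers d)]; exact one_mem _, rfl⟩).imp
        (fun e => eq_bot_iff.2 ?_) fun e => eq_top_iff.2 ?_
    · rintro _ ⟨h, hh, rfl⟩
      exact mK h (map_subtype_le _ hh)
    · rintro _ ⟨h, ⟨y, hy, e⟩, rfl⟩
      exact ⟨⟨c, CH hc⟩ * h * (⟨c, CH hc⟩ : H)⁻¹, ⟨_, hN.conj_mem y hy ⟨_, ⟨c, CH hc⟩, hc, rfl⟩, by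
        rw [map_mul π, map_mul π, map_inv π, ← e]; rfl⟩, rfl⟩
    · rintro ⟨_, h, hh, rfl⟩ hy
      exact Subtype.ext ((π1 h).2 (e.le ⟨h, ⟨_, hy, rfl⟩, rfl⟩))
    · rintro ⟨_, h, hh, rfl⟩ -
      obtain ⟨h', ⟨y, hy, e1⟩, e2⟩ := e.ge hh
      obtain rfl : h' = h := Subtype.ext e2
      exact (show y = ⟨π h', h', hh, rfl⟩ from Subtype.ext e1) ▸ hy⟩
  obtain ⟨e0⟩ := Cfsg.Agent.S1663.result (G := K) ⟨inferInstance, cK⟩
  have cen : ∀ {X : Type _} [Group X] [Finite X] [IsSimpleGroup X], Nat.card X = 443520 → center X = ⊥ :=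
    fun h => (Normal.eq_bot_or_eq_top inferInstance).resolve_right fun e =>
      Inv.not_isMulCommutative_of_not_prime (by rw [h]; norm_num) ⟨⟨fun a b => mem_center_iff.1 (e ▸ mem_top b) a⟩⟩
  have hZ : ∀ g : H, g.1 ∈ C → (∀ x ∈ K, Commute (π g) x) → π g = 1 := fun g hg h => congrArg Subtype.val (mem_bot.1
    ((cen cK).le (show (⟨π g, g, hg, rfl⟩ : K) ∈ _ from mem_center_iff.2 fun x => Subtype.ext (h x x.2).symm.eq)))
  let φ : _ →* MulAut ↥Cfsg.Spor.M22 := (MulAut.congr e0).toMonoidHom.comp (MulAut.conjNormal (H := K))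
  have inj : Function.Injective φ := (MulAut.congr e0).injective.comp
    ((injective_iff_map_eq_one _).2 fun g hg => by
      obtain ⟨g, rfl⟩ := QuotientGroup.mk'_surjective _ g
      have a1 : ∀ x ∈ K, Commute (π g) x := fun x hx => by
        have := congrArg (fun y : K => y.1) (DFunLike.congr_fun hg ⟨x, hx⟩)
        exact mul_inv_eq_iff_eq_mul.1 this
      rcases nd g g.2 with e | e
      · exact hZ g (mC.2 ⟨g.2, e⟩) a1
      obtain ⟨k, hk⟩ := (π1 _).1 (hZ (g * g) (c2 g.2 g.2 e e) fun x hx => map_mul π g g ▸ (a1 x hx).mul_left (a1 x hx))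
      have a2 : ∀ c ∈ C, c * g * c⁻¹ * (g : G)⁻¹ ∈ zpowers d := fun c hc =>
        (π1 (⟨c, CH hc⟩ * g * (⟨c, CH hc⟩ : H)⁻¹ * g⁻¹)).1 (by
          simp only [map_mul, map_inv, ← (a1 _ ⟨⟨c, CH hc⟩, hc, rfl⟩).eq]; group)
      refine (nj g g.2 e ?_ fun h hh => ?_).elim
      · have a3 : (g : G) * g = (g * g : G)⁻¹ := by
          conv_lhs => rw [show (g : G) * g = g * (g * g) * (g : G)⁻¹ by group]
          rw [show (g : G) * g = d ^ k from hk.symm, ← conj_zpow, e, inv_zpow]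
        have a4 : ((g : G) * g) ^ 3 = 1 := by
          rw [show (g : G) * g = d ^ k from hk.symm, ← od, ← zpow_natCast, ← zpow_mul, mul_comm, zpow_mul, zpow_natCast,
            pow_orderOf_eq_one, one_zpow]
        rwa [pow_three, ← mul_assoc, eq_inv_iff_mul_eq_one.1 a3, one_mul] at a4
      · rcases nd h hh with e' | e'
        · exact a2 h (mC.2 ⟨hh, e'⟩)
        · simpa only [mul_inv_rev, mul_assoc, mul_inv_cancel_left] using a2 _ (c2 hh g.2 e' e))
  have := Spor.M22_simple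
  have cA : Nat.card (MulAut ↥Cfsg.Spor.M22) = 887040 := by
    rw [Cls.card_mulAut_eq ((Normal.eq_bot_or_eq_top inferInstance).resolve_right fun e =>
      Inv.not_isMulCommutative_of_not_prime (by rw [Spor.card_M22]; norm_num)
        ⟨⟨fun a b => mem_center_iff.1 (e ▸ mem_top b) a⟩⟩), Cfsg.Agent.S2062.result, Spor.card_M22]
  have : Finite (MulAut ↥Cfsg.Spor.M22) := Nat.finite_of_card_ne_zero (by rw [cA]; norm_num)
  refine ⟨MulEquiv.ofBijective φ ((Nat.bijective_iff_injective_and_card φ).2 ⟨inj, ?_⟩)⟩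
  have := card_eq_card_quotient_mul_card_subgroup ((zpowers d).subgroupOf H)
  rw [cH, c3] at this
  omega

theorem pop : ∀ om, om = om6 ∨ om = om7 → ((Finset.range 4096).filter fun c => om.testBit c = true).card = 693 ∧
    om.testBit 288 = true := by
  rintro _ (rfl | rfl) <;> decide +kernel

theorem ord3 {g : OG q0} (h : g * g * g = 1) (h1 : g ≠ 1) : orderOf g = 3 :=
  orderOf_eq_prime (by rw [pow_three', h]) h1

theorem d1 : dO.1 (vec 1) = vec 2 := cd_d 1

theorem od : orderOf dO = 3 := ord3 d_cube fun e => by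
  have := d1
  rw [e] at this
  exact absurd (vec_inj (c := 1) (by decide) (by decide) this) (by decide)

end P4x

open P4x in
theorem p4 : P4 := by
  intro H0 H h ⟨om, o1, o2⟩ nd ⟨cH, cC, si⟩
  have : Finite (OG q0) := Finite.of_injective (fun g v => g.1 v) fun a b e => OG.ext' (congrFun e)
  have dH := h.le h.hx.d
  have d2 : dO⁻¹ * dO⁻¹ = dO := by rw [← mul_one (_ * _), ← d_cube]; group
  refine ⟨fun M MH nM pM => ?_, ?_, iso od dH nd cH cC si fun j jH jd j2 hj => ?_⟩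
  · have dM : dO ∉ M := fun e => absurd od (by
      rw [eq_one_of_coprime_of_mem pM e (by rw [od]; norm_num), orderOf_one]; norm_num)
    have MC : M ≤ H ⊓ centralizer {dO} := fun m hm => ⟨MH hm, mem_centralizer_singleton_iff.2
      (mul_inv_eq_iff_eq_mul.1 ((nd m (MH hm)).resolve_right fun e => dM (by
        have := mul_mem hm (conj_mem (nM dH) (inv_mem hm))
        rwa [← mul_assoc, ← mul_assoc, e, d2] at this)))⟩
    have nD : H ⊓ centralizer {dO} ≤ 𝒩(zpowers dO) := inf_le_right.trans (by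
      rw [← centralizer_closure, ← zpowers_eq_closure]; exact centralizer_le_normalizer _)
    obtain ⟨a, ha⟩ := pM.exists_card_eq
    rcases si (M ⊔ zpowers dO) (sup_le MC (zpowers_le.2 ⟨dH, mem_centralizer_singleton_iff.2 rfl⟩))
      (le_norm_sup (inf_le_left.trans nM) nD) (mem_sup_right (mem_zpowers _)) with e | e
    · exact eq_bot_iff.2 fun m hm => eq_one_of_coprime_of_mem pM hm (Nat.Coprime.coprime_dvd_left
        (Subgroup.orderOf_dvd_natCard _ (e.le (mem_sup_left hm))) (by rw [Nat.card_zpowers, od]; norm_num))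
    · have := card_sup_dvd (MC.trans nD)
      rw [e, cC, ha, Nat.card_zpowers, od] at this
      have := (Nat.Coprime.pow_right a (by norm_num : Nat.Coprime 5 2)).dvd_of_dvd_mul_left
        ((by norm_num : 5 ∣ 1330560).trans this)
      omega
  · have le : H0 ⊓ FZ ≤ H ⊓ centralizer {dO} := fun g hg =>
      ⟨h.le hg.1, mem_centralizer_singleton_iff.2 (h.hx.cd g hg.1 hg.2)⟩
    have xF : xO ∈ H0 ⊓ FZ := ⟨h.hx.x, cd_x 1, cd_x 2⟩
    have x3 : xO * xO * xO = 1 := ((cd_x.mul cd_x).mul cd_x).ext cd_one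
    have ox : orderOf xO = 3 := ord3 x3 fun e => by
      have := cd_x 4
      rw [e] at this
      exact absurd (vec_inj (c := 4) (c' := 8) (by decide) (by decide) this) (by decide)
    have cm : ∀ c ∈ H ⊓ centralizer {dO}, ∀ g ∈ H ⊓ centralizer {dO}, c * g * c⁻¹ * g⁻¹ ∈
      ⁅H ⊓ centralizer {dO}, H ⊓ centralizer {dO}⁆ := fun c hc g hg => commutator_mem_commutator hc hg
    obtain ⟨c, c1, c2⟩ := h.hc.three _ (inv_mem xF) (by rwa [orderOf_inv])
    have a1 := cm c (le c1) _ (inv_mem (le xF))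
    rw [c2, inv_inv, eq_inv_of_mul_eq_one_left x3, inv_mem_iff] at a1
    obtain ⟨k, k1, k2⟩ : ∃ k ∈ H ⊓ centralizer {dO}, k.1 (vec 1) = vec 288 := by
      obtain ⟨k, k1, k2⟩ := (o2 288 (by decide)).2 (pop om o1).2
      obtain ⟨s, s1, s2, s3⟩ := h.hx.sg
      rcases nd k k1 with e | e
      · exact ⟨k, ⟨k1, mem_centralizer_singleton_iff.2 (mul_inv_eq_iff_eq_mul.1 e)⟩, k2⟩
      · exact ⟨k * s, ⟨mul_mem k1 (h.le s1), mem_centralizer_singleton_iff.2 (mul_inv_eq_iff_eq_mul.1 (by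
          rw [show k * s * dO * (k * s)⁻¹ = k * (s * dO * s⁻¹) * k⁻¹ by group, s3, ← conj_inv, e, inv_inv]))⟩,
          by rw [OG.mul_app, s2, k2]⟩
    have dC : dO ∈ H ⊓ centralizer {dO} := ⟨dH, mem_centralizer_singleton_iff.2 rfl⟩
    have gC := mul_mem (mul_mem (inv_mem k1) (mul_mem (le xF) dC)) k1
    have g1 : (k⁻¹ * (xO * dO) * k).1 (vec 1) = vec 1 := by
      rw [OG.mul_app, OG.mul_app, k2, (cd_x.mul cd_d) 288, show xs _ 288 = 288 by decide +kernel, ← k2, OG.inv_app_app]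
    have g2 : (k⁻¹ * (xO * dO) * k).1 (vec 2) = vec 2 := by
      rw [← d1, ← OG.mul_app, mem_centralizer_singleton_iff.1 gC.2, OG.mul_app, g1]
    obtain ⟨c, c1, c2⟩ := h.hc.three _ ⟨h.stab _ gC.1 g1, g1, g2⟩ (by
      rw [← inv_inv k, inv_inv k⁻¹, ← MulAut.conj_apply, MulEquiv.orderOf_eq]
      exact ord3 ((((cd_x.mul cd_d).mul (cd_x.mul cd_d)).mul (cd_x.mul cd_d)).ext cd_one) fun e => by
        have := (cd_x.mul cd_d) 1
        rw [e] at this
        exact absurd (vec_inj (c := 1) (c' := 2) (by decide) (by decide) this) (by decide))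
    have a2 := cm _ (mul_mem (le c1) (inv_mem k1)) _ (mul_mem (le xF) dC)
    rw [show c * k⁻¹ * (xO * dO) * (c * k⁻¹)⁻¹ = c * (k⁻¹ * (xO * dO) * k) * c⁻¹ by group, c2, mul_inv_rev,
      mul_mem_cancel_left a1, mul_mem_cancel_right (inv_mem a1), inv_mem_iff] at a2
    exact a2
  · classical
    let Ω := ((Finset.range 4096).filter fun c => om.testBit c = true).image vec
    have cΩ : Ω.card = 693 := by
      rw [Finset.card_image_of_injOn fun a ha b hb => vec_inj (Finset.mem_range.1 (Finset.mem_filter.1 ha).1)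
        (Finset.mem_range.1 (Finset.mem_filter.1 hb).1), (pop om o1).1]
    have mΩ : ∀ v, v ∈ Ω ↔ ∃ g ∈ H, g.1 (vec 1) = v := fun v => by
      simp only [Ω, Finset.mem_image, Finset.mem_filter, Finset.mem_range]
      refine ⟨fun ⟨c, ⟨c1, c2⟩, e⟩ => e ▸ (o2 c c1).2 c2, fun k => ?_⟩
      obtain ⟨c, c1, rfl⟩ := vec_surj v
      exact ⟨c, ⟨c1, (o2 c c1).1 k⟩, rfl⟩
    obtain ⟨v, v1, v2⟩ : ∃ v ∈ Ω, j.1 v = v := by
      by_contra! k
      have := Finset.sum_involution (s := Ω) (f := fun _ => (1 : ZMod 2)) (fun v _ => j.1 v) (fun _ _ => rfl)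
        (fun v hv _ => k v hv) (fun v hv => by
          obtain ⟨g, g1, rfl⟩ := (mΩ v).1 hv
          exact (mΩ _).2 ⟨j * g, mul_mem jH g1, rfl⟩) fun v _ => by rw [← OG.mul_app, j2]; rfl
      rw [Finset.sum_const, cΩ, nsmul_one, ZMod.natCast_eq_zero_iff] at this
      omega
    obtain ⟨g, g1, rfl⟩ := (mΩ v).1 v1
    have b1 := (fx_sq (K1 := ⊥) bot_le (fun g hg => mem_bot.1 hg ▸ Commute.one_left _) (mem_zpowers j) jd).trans
      ((Nat.card_le_card_of_injective _ Subtype.val_injective).trans card_V0.le)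
    have b2 : Nat.card Ω ≤ Nat.card (zpowers dO × Fx (zpowers j)) := by
      have : ∀ w : Ω, ∃ x : zpowers dO × Fx (zpowers j), (x.1 : OG q0)⁻¹.1 x.2 = w := fun w => by
        obtain ⟨k, k1, k2⟩ := (mΩ _).1 w.2
        obtain ⟨n, hn⟩ := hj _ (mul_mem k1 (inv_mem g1))
        have e1 : (dO ^ n * j).1 w = w := by
          rw [show dO ^ n = _ from hn, inv_mul_cancel_right, ← k2, mul_inv_rev, inv_inv, OG.mul_app, OG.mul_app, OG.mul_app,
            OG.mul_app, OG.inv_app_app, v2, OG.inv_app_app]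
        have e2 : j * dO ^ n = dO ^ n * (dO ^ n * j) := by
          rw [← mul_assoc, ← Commute.mul_zpow (.refl _), eq_inv_of_mul_eq_one_left d_cube, ← jd, conj_zpow,
            inv_mul_cancel_right]
        exact ⟨⟨⟨_, n, rfl⟩, (dO ^ n).1 w, fun k hk => zpowers_le.2 (show j ∈ MulAction.stabilizer (OG q0) _ from
          show j.1 _ = _ by rw [← OG.mul_app, e2, OG.mul_app, e1]) hk⟩, OG.inv_app_app _ _⟩
      choose f hf using this
      exact Nat.card_le_card_of_injective f fun a b e => Subtype.ext (by rw [← hf, ← hf, e])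
    rw [Nat.card_prod, Nat.card_zpowers, od, Nat.card_eq_fintype_card, Fintype.card_coe, cΩ] at b2
    nlinarith

end CL.Pen
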